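import Cfsg.Agent.SEEngine63.Swappers

/-!
# Two classes without common centralizing bad involution: the fixed point sets meet

docs/se_engine_section6_helper63.md, "one class of lines".
-/

set_option autoImplicit false
set_option linter.style.haveILetI false

namespace CfsgLib.SEEngine63

open CfsgLib.Small

variable {G : Type*} [Group G] [Finite G] {Ω : Type*} [MulAction G Ω]

namespace SpreadClass

variable (S : SpreadClass G Ω)

/-- Two involutions which are not conjugate, all common centralizing involutions lying in `D`, fix a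
common point. -/
theorem exists_common_fix {u v : G} (hu : orderOf u = 2) (hv : orderOf v = 2) (hne : ¬ IsConj u v)
    (hj : ∀ j : G, orderOf j = 2 → Commute j u → Commute j v → j ∈ S.D) :
    ∃ x : Ω, u • x = x ∧ v • x = x := by
  have heven : Even (orderOf (u * v)) := Nat.not_odd_iff_even.1 fun hodd => by
    obtain ⟨k, hk⟩ := conj_pow_eq_of_odd hu hv hodd
    exact hne (isConj_iff.2 ⟨_, hk⟩)
  obtain ⟨hj2, hju, hjv⟩ := half_pow_spec hu hv heven
  set j := (u * v) ^ (orderOf (u * v) / 2) with hjdef
  have hjD := hj j hj2 hju hjv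
  obtain ⟨x, hx⟩ := S.exists_fix j hjD
  refine ⟨x, S.unique j hjD _ _ ?_ hx, S.unique j hjD _ _ ?_ hx⟩
  · rw [smul_smul, hju.eq, mul_smul, hx]
  · rw [smul_smul, hjv.eq, mul_smul, hx]

include S in
/-- If every conjugate of `u` fixes a point of `v`, the number of points is at most the product of
the numbers of fixed points. -/
theorem card_le_of_meet {u v : G}
    (h : ∀ g : G, ∃ x : Ω, (g * u * g⁻¹) • x = x ∧ v • x = x) :
    Nat.card Ω ≤ Nat.card {x : Ω // u • x = x} * Nat.card {x : Ω // v • x = x} := by
  classical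
  rcases isEmpty_or_nonempty Ω with hΩ | ⟨⟨a⟩⟩
  · rw [Nat.card_of_isEmpty]; exact Nat.zero_le _
  haveI : Finite Ω := Finite.of_surjective (fun g : G => g • a) fun z => S.transitive a z
  haveI := Fintype.ofFinite Ω
  let K := {k : G // IsConj u k}
  haveI : Fintype K := Fintype.ofFinite K
  let c : Ω → ℕ := fun x => Nat.card {k : K // k.1 • x = x}
  have hc : ∀ x, c x = c a := fun x => by
    obtain ⟨g, rfl⟩ := S.transitive a x
    refine (Nat.card_congr ?_).symm
    refine (((MulAut.conj g).toEquiv.subtypeEquiv (q := fun k => IsConj u k) fun k => ?_).subtypeEquiv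
      fun k => ?_)
    · exact ⟨fun hk => hk.trans (isConj_iff.2 ⟨g, rfl⟩),
        fun hk => hk.trans (isConj_iff.2 ⟨g⁻¹, by simp [mul_assoc]⟩)⟩
    · show k.1 • a = a ↔ (g * k.1 * g⁻¹) • g • a = g • a
      rw [smul_smul, inv_mul_cancel_right, mul_smul, smul_left_cancel_iff]
  have hf : ∀ k : K, Nat.card {x : Ω // k.1 • x = x} = Nat.card {x : Ω // u • x = x} := fun k => by
    obtain ⟨g, hg⟩ := isConj_iff.1 k.2
    refine (Nat.card_congr ((MulAction.toPerm g).subtypeEquiv fun x => ?_)).symm
    rw [← hg, MulAction.toPerm_apply, smul_smul, inv_mul_cancel_right, mul_smul, smul_left_cancel_iff]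
  -- count the incidences twice
  have htot : Nat.card Ω * c a = Nat.card K * Nat.card {x : Ω // u • x = x} := by
    have e : (Σ x : Ω, {k : K // k.1 • x = x}) ≃ Σ k : K, {x : Ω // k.1 • x = x} :=
      { toFun := fun p => ⟨p.2.1, p.1, p.2.2⟩
        invFun := fun p => ⟨p.2.1, p.1, p.2.2⟩
        left_inv := fun _ => rfl
        right_inv := fun _ => rfl }
    have h1 := Nat.card_congr e
    simp only [Nat.card_sigma, hf] at h1
    rw [Finset.sum_congr rfl fun x _ => hc x, Finset.sum_const, Finset.sum_const, smul_eq_mul,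
      smul_eq_mul, Finset.card_univ, Finset.card_univ, ← Nat.card_eq_fintype_card,
      ← Nat.card_eq_fintype_card] at h1
    exact h1
  -- every conjugate meets the fixed points of `v`
  have hle : Nat.card K ≤ Nat.card {x : Ω // v • x = x} * c a := by
    choose f hf1 hf2 using fun k : K => h (isConj_iff.1 k.2).choose
    have hk : ∀ k : K, k.1 • f k = f k := fun k => by
      have := hf1 k
      rwa [(isConj_iff.1 k.2).choose_spec] at this
    calc Nat.card K
        ≤ Nat.card (Σ x : {x : Ω // v • x = x}, {k : K // k.1 • (x : Ω) = x}) :=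
          Nat.card_le_card_of_injective (fun k => ⟨⟨f k, hf2 k⟩, k, hk k⟩)
            fun k k' he => by
              have := congrArg (fun p : Σ x : {x : Ω // v • x = x}, {k : K // k.1 • (x : Ω) = x} =>
                p.2.1) he
              exact this
      _ = _ := by
          haveI := Fintype.ofFinite {x : Ω // v • x = x}
          rw [Nat.card_sigma, Finset.sum_congr rfl fun x _ => hc x.1, Finset.sum_const, smul_eq_mul,
            Finset.card_univ, ← Nat.card_eq_fintype_card]
  have hKpos : 0 < Nat.card K := Nat.card_pos_iff.2 ⟨⟨⟨u, IsConj.refl u⟩⟩, inferInstance⟩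
  refine Nat.le_of_mul_le_mul_right ?_ hKpos
  calc Nat.card Ω * Nat.card K ≤ Nat.card Ω * (Nat.card {x : Ω // v • x = x} * c a) :=
        Nat.mul_le_mul_left _ hle
    _ = _ := by rw [← mul_assoc, mul_comm (Nat.card Ω), mul_assoc, htot]; ring

end SpreadClass

end CfsgLib.SEEngine63
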