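import Cfsg.Agent.ZStar.Theorem
import Cfsg.Agent.Small.Dihedral
import Mathlib.Algebra.BigOperators.Fin

/-!
# Swappers in the engine of the strongly closed abelian theorem

`G` acts transitively on `Ω`, `D` is a conjugation closed set of involutions, each fixing exactly one
point, two of them at different points having product of odd order (docs/se_criterion_helper17.md,
steps 1-3).

* `card_swappers`: a pair has as many swappers in `D` as there are members of `D` at a point;
* `conj_injOn`, `exists_swapper`: for `z` at `x`, `s ↦ s z s` matches them with the members at `y`;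
* `exists_odd_transitive`: if the swappers of a pair have products of odd order, an odd normal
  subgroup `O` of the pair stabilizer is transitive on the members at each of the points and the
  stabilizer is `O` times the centralizer of a swapper.
-/

set_option autoImplicit false
set_option linter.style.haveILetI false

namespace CfsgLib.SEEngine63

open CfsgLib.Small

variable {G : Type*} [Group G] {Ω : Type*} [MulAction G Ω]

/-- The standing hypothesis. -/
structure SpreadClass (G : Type*) [Group G] (Ω : Type*) [MulAction G Ω] where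
  D : Set G
  invol : ∀ d ∈ D, orderOf d = 2
  conj : ∀ g : G, ∀ d ∈ D, g * d * g⁻¹ ∈ D
  unique : ∀ d ∈ D, ∀ x y : Ω, d • x = x → d • y = y → x = y
  exists_fix : ∀ d ∈ D, ∃ x : Ω, d • x = x
  odd_mul : ∀ d ∈ D, ∀ e ∈ D, ∀ x y : Ω, d • x = x → e • y = y → x ≠ y → Odd (orderOf (d * e))
  transitive : ∀ x y : Ω, ∃ g : G, g • x = y

namespace SpreadClass

variable (S : SpreadClass G Ω)

/-- The members of `D` at `x`. -/
def members (x : Ω) : Set G := {d | d ∈ S.D ∧ d • x = x}

/-- The members of `D` mapping `x` to `y`. -/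
def swappers (x y : Ω) : Set G := {d | d ∈ S.D ∧ d • x = y}

theorem smul_smul_self {d : G} (hd : d ∈ S.D) (x : Ω) : d • d • x = x := by
  rw [smul_smul, mul_self_of_orderOf_two (S.invol d hd), one_smul]

theorem swappers_symm {x y : Ω} : S.swappers x y = S.swappers y x := by
  ext d
  exact ⟨fun h => ⟨h.1, by rw [← h.2, S.smul_smul_self h.1]⟩,
    fun h => ⟨h.1, by rw [← h.2, S.smul_smul_self h.1]⟩⟩

theorem conj_mem_members {g d : G} {x : Ω} (hd : d ∈ S.members x) :
    g * d * g⁻¹ ∈ S.members (g • x) :=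
  ⟨S.conj g d hd.1, by rw [mul_smul, mul_smul, inv_smul_smul, hd.2]⟩

theorem conj_mem_members_of_swapper {s d : G} {x y : Ω} (hs : s ∈ S.swappers x y)
    (hd : d ∈ S.members x) : s * d * s⁻¹ ∈ S.members y := by
  have h := S.conj_mem_members (g := s) hd
  rwa [hs.2] at h

/-- Members at two different points are interchanged by a swapper. -/
theorem exists_swapper {x y : Ω} (hxy : x ≠ y) {d e : G} (hd : d ∈ S.members x)
    (he : e ∈ S.members y) : ∃ s ∈ S.swappers x y, s * d * s⁻¹ = e := by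
  have hd2 := S.invol d hd.1
  have he2 := S.invol e he.1
  have hodd := S.odd_mul d hd.1 e he.1 x y hd.2 he.2 hxy
  obtain ⟨k, hk⟩ := conj_pow_eq_of_odd hd2 he2 hodd
  set v := (d * e) ^ k with hv
  have hinv : d * v * d⁻¹ = v⁻¹ := invol_conj_pow (invol_conj_mul hd2 he2) k
  -- `v` is a square, so `v * d` is conjugate to `d`
  obtain ⟨j, hj⟩ : ∃ j : ℕ, ((d * e) ^ j) * ((d * e) ^ j) = v := by
    obtain ⟨m, hm⟩ := hodd
    refine ⟨k * (m + 1), ?_⟩
    rw [← pow_add, hv, show k * (m + 1) + k * (m + 1) = orderOf (d * e) * k + k by rw [hm]; ring,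
      pow_add, pow_mul, pow_orderOf_eq_one, one_pow, one_mul]
  have hu : d * (d * e) ^ j * d⁻¹ = ((d * e) ^ j)⁻¹ := invol_conj_pow (invol_conj_mul hd2 he2) j
  have hvd : v * d = (d * e) ^ j * d * ((d * e) ^ j)⁻¹ := by
    rw [← hu, ← hj]
    simp only [mul_assoc, inv_eq_self_of_orderOf_two hd2]
    simp only [← mul_assoc, mul_self_of_orderOf_two hd2, one_mul]
  refine ⟨v * d, ⟨hvd ▸ S.conj _ d hd.1, ?_⟩, ?_⟩
  · refine S.unique e he.1 _ _ ?_ he.2
    rw [← hk, smul_smul, show v * d * v⁻¹ * (v * d) = v * d * d by group, mul_smul (v * d), hd.2]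
  · rw [← hk]; group

variable [Finite G]

omit [Finite G] in
theorem card_members_eq (x y : Ω) : Nat.card (S.members x) = Nat.card (S.members y) := by
  obtain ⟨g, rfl⟩ := S.transitive x y
  refine Nat.card_congr ((MulAut.conj g).toEquiv.subtypeEquiv fun d => ?_)
  show d ∈ S.members x ↔ g * d * g⁻¹ ∈ S.members (g • x)
  refine ⟨S.conj_mem_members, fun h => ?_⟩
  have h2 := S.conj_mem_members (g := g⁻¹) h
  rwa [inv_smul_smul, show g⁻¹ * (g * d * g⁻¹) * g⁻¹⁻¹ = d by group] at h2

theorem card_members_le {x y : Ω} (hxy : x ≠ y) :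
    Nat.card (S.members x) ≤ Nat.card (S.swappers x y) := by
  by_cases h0 : IsEmpty (S.members x)
  · rw [Nat.card_of_isEmpty]; exact Nat.zero_le _
  rw [not_isEmpty_iff] at h0
  obtain ⟨d, hd⟩ := h0
  choose f hf hfe using fun e : S.members y => S.exists_swapper hxy hd e.2
  rw [S.card_members_eq x y]
  refine Nat.card_le_card_of_injective (fun e => (⟨f e, hf e⟩ : S.swappers x y)) fun e e' he => ?_
  have h1 : f e = f e' := congrArg Subtype.val he
  exact Subtype.ext (by rw [← hfe e, h1, hfe e'])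

/-- A pair has as many swappers as there are members at a point. -/
theorem card_swappers {x y : Ω} (hxy : x ≠ y) :
    Nat.card (S.swappers x y) = Nat.card (S.members x) := by
  classical
  haveI : Finite Ω := Finite.of_surjective (fun g : G => g • x) fun z => S.transitive x z
  haveI := Fintype.ofFinite Ω
  let e1 : (Σ z : Ω, S.swappers x z) ≃ S.D :=
    { toFun := fun q => ⟨q.2.1, q.2.2.1⟩
      invFun := fun d => ⟨d.1 • x, ⟨d.1, d.2, rfl⟩⟩
      left_inv := fun ⟨z, d, hd, hz⟩ => by subst hz; rfl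
      right_inv := fun _ => rfl }
  let e2 : (Σ z : Ω, S.members z) ≃ S.D :=
    { toFun := fun q => ⟨q.2.1, q.2.2.1⟩
      invFun := fun d => ⟨(S.exists_fix d.1 d.2).choose, ⟨d.1, d.2, (S.exists_fix d.1 d.2).choose_spec⟩⟩
      left_inv := fun ⟨z, d, hd, hz⟩ => by
        have h := S.unique d hd _ z (S.exists_fix d hd).choose_spec hz
        exact Sigma.subtype_ext h rfl
      right_inv := fun _ => rfl }
  have hsum : ∑ z, Nat.card (S.swappers x z) = ∑ _z : Ω, Nat.card (S.members x) := by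
    rw [← Nat.card_sigma, Nat.card_congr (e1.trans e2.symm), Nat.card_sigma]
    exact Finset.sum_congr rfl fun z _ => S.card_members_eq z x
  have hle : ∀ z ∈ Finset.univ, Nat.card (S.members x) ≤ Nat.card (S.swappers x z) := fun z _ => by
    by_cases hz : x = z
    · subst hz; exact le_rfl
    · exact S.card_members_le hz
  exact ((Finset.sum_eq_sum_iff_of_le hle).1 hsum.symm y (Finset.mem_univ _)).symm

/-- For `z` at `x`, conjugation of `z` matches the swappers with the members at `y`. -/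
theorem conj_bijective {x y : Ω} (hxy : x ≠ y) {d : G} (hd : d ∈ S.members x) :
    Function.Bijective fun s : S.swappers x y =>
      (⟨s.1 * d * (s.1)⁻¹, S.conj_mem_members_of_swapper s.2 hd⟩ : S.members y) := by
  refine (Function.Surjective.bijective_of_nat_card_le (fun e => ?_)
    (by rw [S.card_swappers hxy, S.card_members_eq x y]))
  obtain ⟨s, hs, hse⟩ := S.exists_swapper hxy hd e.2
  exact ⟨⟨s, hs⟩, Subtype.ext hse⟩

/-- Swappers with products of odd order: an odd normal subgroup of the pair stabilizer is transitive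
on the members at `x`, and complements the centralizer of a swapper. -/
theorem exists_odd_transitive {x y : Ω} (hxy : x ≠ y) {s : G} (hs : s ∈ S.swappers x y)
    (hodd : ∀ s' ∈ S.swappers x y, Odd (orderOf (s * s'))) :
    ∃ O : Subgroup G, O ≤ MulAction.stabilizer G x ⊓ MulAction.stabilizer G y ∧ Odd (Nat.card O) ∧
      (∀ g ∈ MulAction.stabilizer G x ⊓ MulAction.stabilizer G y, ∀ o ∈ O, g * o * g⁻¹ ∈ O) ∧
      (∀ s' ∈ S.swappers x y, s' * s ∈ O) ∧
      (∀ d ∈ S.members x, ∀ d' ∈ S.members x, ∃ o ∈ O, o * d * o⁻¹ = d') ∧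
      ∀ g ∈ MulAction.stabilizer G x ⊓ MulAction.stabilizer G y,
        ∃ c ∈ Subgroup.centralizer ({s} : Set G), ∃ o ∈ O, g = c * o := by
  have hsy : s • y = x := by rw [← hs.2, S.smul_smul_self hs.1]
  have hs2 := S.invol s hs.1
  let K : Subgroup G :=
    { carrier := {g | (g • x = x ∧ g • y = y) ∨ (g • x = y ∧ g • y = x)}
      mul_mem' := by
        rintro a b (⟨ha, ha'⟩ | ⟨ha, ha'⟩) (⟨hb, hb'⟩ | ⟨hb, hb'⟩) <;>
          simp only [Set.mem_ofPred_eq, mul_smul, ha, ha', hb, hb', and_self, true_or, or_true]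
      one_mem' := Or.inl ⟨one_smul _ _, one_smul _ _⟩
      inv_mem' := by
        rintro a (⟨ha, ha'⟩ | ⟨ha, ha'⟩)
        · exact Or.inl ⟨inv_smul_eq_iff.2 ha.symm, inv_smul_eq_iff.2 ha'.symm⟩
        · exact Or.inr ⟨inv_smul_eq_iff.2 ha'.symm, inv_smul_eq_iff.2 ha.symm⟩ }
  have hswK : ∀ s' ∈ S.swappers x y, s' ∈ K := fun s' h' =>
    Or.inr ⟨h'.2, by rw [← h'.2, S.smul_smul_self h'.1]⟩
  have hKsw : ∀ k ∈ K, k * s * k⁻¹ ∈ S.swappers x y := by
    intro k hk
    refine ⟨S.conj k s hs.1, ?_⟩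
    rcases hk with ⟨h1, h2⟩ | ⟨h1, h2⟩
    · rw [mul_smul, mul_smul, inv_smul_eq_iff.2 h1.symm, hs.2, h2]
    · rw [mul_smul, mul_smul, inv_smul_eq_iff.2 h2.symm, hsy, h1]
  have hiso : Cfsg.IsIsolatedInvolution (⟨s, hswK s hs⟩ : K) := by
    refine ⟨by rw [Subgroup.orderOf_mk, hs2], fun g hg => Subtype.ext ?_⟩
    have hc : Commute s ((g : G) * s * (g : G)⁻¹) := congrArg Subtype.val hg.eq
    have ho := hodd _ (hKsw g g.2)
    have h2 : (s * ((g : G) * s * (g : G)⁻¹)) ^ 2 = 1 := by
      rw [hc.mul_pow, pow_two, mul_self_of_orderOf_two hs2, pow_two,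
        mul_self_of_orderOf_two (by rw [orderOf_conj_eq, hs2]), one_mul]
    have h1 : orderOf (s * ((g : G) * s * (g : G)⁻¹)) = 1 :=
      Nat.eq_one_of_dvd_coprimes (Nat.coprime_two_left.2 ho) (orderOf_dvd_of_pow_eq_one h2) dvd_rfl
    rw [orderOf_eq_one_iff, mul_eq_one_iff_eq_inv'] at h1
    simpa [inv_eq_self_of_orderOf_two hs2] using h1
  obtain ⟨N, hN, hNodd, hNc⟩ := ZStar.exists_oddNormal hiso
  refine ⟨N.map K.subtype, ?_, by rwa [Subgroup.card_map_of_injective K.subtype_injective], ?_, ?_⟩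
  · rintro _ ⟨o, ho, rfl⟩
    rcases o.2 with ⟨h1, h2⟩ | ⟨h1, h2⟩
    · exact Subgroup.mem_inf.2 ⟨h1, h2⟩
    exfalso
    obtain ⟨m, hm⟩ := Odd.of_dvd_nat hNodd (Subgroup.orderOf_dvd_natCard _ ho)
    have he : ∀ i : ℕ, ((o : G) ^ 2) ^ i • x = x := fun i => by
      induction i with
      | zero => rw [pow_zero, one_smul]
      | succ i ih => rw [pow_succ, mul_smul, pow_two, mul_smul, h1, h2, ← pow_two, ih]
    have h3 : ((o : G) ^ (2 * m + 1)) • x = x := by
      rw [← hm, show (o : G) ^ orderOf o = 1 by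
        rw [← Subgroup.coe_pow, pow_orderOf_eq_one, Subgroup.coe_one], one_smul]
    rw [pow_succ', mul_smul, pow_mul, he, h1] at h3
    exact hxy h3.symm
  · intro g hg _ ⟨o, ho, e⟩
    subst e
    exact ⟨⟨g, Or.inl (Subgroup.mem_inf.1 hg)⟩ * o * ⟨g, Or.inl (Subgroup.mem_inf.1 hg)⟩⁻¹,
      hN.conj_mem o ho _, rfl⟩
  have hmem : ∀ s' ∈ S.swappers x y, s' * s ∈ N.map K.subtype := by
    intro s' hs'
    have hodd' : Odd (orderOf (s * s')) := hodd s' hs'
    obtain ⟨k, hk⟩ := conj_pow_eq_of_odd hs2 (S.invol s' hs'.1) hodd'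
    let g : K := (⟨s, hswK s hs⟩ * ⟨s', hswK s' hs'⟩) ^ k
    have hg := hNc g
    refine ⟨⟨s', hswK s' hs'⟩ * ⟨s, hswK s hs⟩, ?_, rfl⟩
    have e : (⟨s', hswK s' hs'⟩ * ⟨s, hswK s hs⟩ : K) =
        (⟨s, hswK s hs⟩ * g * ⟨s, hswK s hs⟩⁻¹ * g⁻¹)⁻¹ := by
      apply Subtype.ext
      simp only [g, Subgroup.coe_mul, InvMemClass.coe_inv, SubmonoidClass.coe_pow, mul_inv_rev,
        inv_inv, inv_eq_self_of_orderOf_two hs2]
      simp only [← mul_assoc]
      rw [hk]
    rw [e]
    exact N.inv_mem hg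
  refine ⟨hmem, fun d hd d' hd' => ?_, fun g hg => ?_⟩
  · obtain ⟨⟨s', hs'⟩, he⟩ := (S.conj_bijective hxy.symm
      (S.conj_mem_members_of_swapper hs hd)).2 ⟨d', hd'⟩
    refine ⟨s' * s, hmem s' (S.swappers_symm ▸ hs'), ?_⟩
    have this : s' * (s * d * s⁻¹) * s'⁻¹ = d' := congrArg Subtype.val he
    rw [← this]
    group
  · obtain ⟨h1, h2⟩ := Subgroup.mem_inf.1 hg
    have hs' : g⁻¹ * s * g ∈ S.swappers x y := by
      have := hKsw _ (K.inv_mem (show g ∈ K from Or.inl ⟨h1, h2⟩))
      simpa using this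
    obtain ⟨k, hk⟩ := conj_pow_eq_of_odd hs2 (S.invol _ hs'.1) (hodd _ hs')
    set u := (s * (g⁻¹ * s * g)) ^ k
    refine ⟨g * u, Subgroup.mem_centralizer_singleton_iff.2 ?_, u⁻¹, ?_, by group⟩
    · calc g * u * s = g * (u * s * u⁻¹) * u := by group
        _ = g * (g⁻¹ * s * g) * u := by rw [hk]
        _ = s * (g * u) := by group
    · refine inv_mem (pow_mem ?_ k)
      have := inv_mem (hmem _ hs')
      simpa [inv_eq_self_of_orderOf_two hs2, mul_assoc] using this

end SpreadClass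

end CfsgLib.SEEngine63
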